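import Mathlib
import Cfsg.Prelude.Def_GeometricClasses
import Cfsg.Prelude.Def_LieClassical
import Cfsg.Agent.Lib.Helper15.AschUCtx
import Cfsg.Agent.Lib.Helper18.PSLnFldG

/-!
# `SU_3(q)`, `q = 3, 5`: non-maximality leaves of the SUnMax stage 2 (helper8) - generic tools

* `not_max_of_stab`: a subgroup `M ≤ G` is not maximal in `G` as soon as a conjugate of it stabilises a set of vectors `S`
  which is stabilised by an element of `G` outside that conjugate and not by all of `G`.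
* matrix form of unitarity, conjugation by unitary matrices.
-/

set_option autoImplicit false
set_option linter.unusedSectionVars false
set_option linter.unusedVariables false

namespace Cfsg.Agent.Lib.Helper8.SU3

open Matrix Cfsg Cfsg.Geo
open scoped MatrixGroups

section Generic

variable {F : Type*} [Field F] {n : ℕ}

/-- the stabiliser in `GL_n(F)` of a set of vectors -/
abbrev stabS (S : Set (Fin n → F)) : Subgroup (GL (Fin n) F) :=
  Cfsg.stabilizing (Cfsg.glToMat (Fin n) F) S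

theorem mem_stabS_iff (S : Set (Fin n → F)) (g : GL (Fin n) F) :
    g ∈ stabS S ↔ ∀ v, v ∈ S ↔ (g : Matrix (Fin n) (Fin n) F) *ᵥ v ∈ S := Iff.rfl

/-- an invertible matrix mapping a finite set into itself stabilises it -/
theorem mem_stabS_of_mapsTo [Finite F] (g : GL (Fin n) F) (S : Set (Fin n → F))
    (h : ∀ w ∈ S, (g : Matrix (Fin n) (Fin n) F) *ᵥ w ∈ S) : g ∈ stabS S := by
  intro v
  show v ∈ S ↔ (g : Matrix (Fin n) (Fin n) F) *ᵥ v ∈ S
  refine ⟨h v, fun hv => ?_⟩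
  have hginj : ∀ w w' : Fin n → F, (g : Matrix (Fin n) (Fin n) F) *ᵥ w =
      (g : Matrix (Fin n) (Fin n) F) *ᵥ w' → w = w' := by
    intro w w' hww
    have := congrArg (fun u => ((g⁻¹ : GL (Fin n) F) : Matrix (Fin n) (Fin n) F) *ᵥ u) hww
    simpa only [Matrix.mulVec_mulVec, ← Units.val_mul, inv_mul_cancel, Units.val_one,
      Matrix.one_mulVec] using this
  let f : ↥S → ↥S := fun w => ⟨(g : Matrix (Fin n) (Fin n) F) *ᵥ w.1, h w.1 w.2⟩
  have hf : Function.Injective f := by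
    intro w w' hww
    exact Subtype.ext (hginj _ _ (congrArg Subtype.val hww))
  obtain ⟨w, hw⟩ := Finite.surjective_of_injective hf ⟨_, hv⟩
  have : w.1 = v := hginj _ _ (congrArg Subtype.val hw)
  rw [← this]
  exact w.2

/-- the non-maximality criterion -/
theorem not_max_of_stab (G M : Subgroup (GL (Fin n) F)) (S : Set (Fin n → F)) (g a b : GL (Fin n) F)
    (hMG : M ≤ G) (hgG : ∀ x ∈ G, g * x * g⁻¹ ∈ G)
    (hM : ∀ m ∈ M, g⁻¹ * m * g ∈ stabS S)
    (ha : a ∈ G) (haS : a ∈ stabS S) (haM : g * a * g⁻¹ ∉ M)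
    (hb : b ∈ G) (hbS : b ∉ stabS S) : ¬ IsMaximalIn G M := by
  rintro ⟨-, hmax⟩
  let L : Subgroup (GL (Fin n) F) := (stabS S).comap (MulAut.conj g⁻¹).toMonoidHom ⊓ G
  have hL : ∀ x, x ∈ L ↔ g⁻¹ * x * g ∈ stabS S ∧ x ∈ G := by
    intro x
    show (MulAut.conj g⁻¹).toMonoidHom x ∈ stabS S ∧ x ∈ G ↔ _
    have e : (MulAut.conj g⁻¹).toMonoidHom x = g⁻¹ * x * g := by
      show g⁻¹ * x * (g⁻¹)⁻¹ = _
      rw [inv_inv]
    rw [e]
  rcases hmax L (fun m hm => (hL m).2 ⟨hM m hm, hMG hm⟩) inf_le_right with h | h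
  · apply haM
    rw [← h, hL]
    refine ⟨?_, hgG a ha⟩
    have e : g⁻¹ * (g * a * g⁻¹) * g = a := by group
    rw [e]
    exact haS
  · apply hbS
    have hb' : g * b * g⁻¹ ∈ L := by
      rw [h]
      exact hgG b hb
    have h1 := ((hL _).1 hb').1
    have e : g⁻¹ * (g * b * g⁻¹) * g = b := by group
    rwa [e] at h1

end Generic

section Unitary

variable {F : Type*} [Field F] [Fintype F] {n q : ℕ}

/-- the group `SU_n(q)` inside `GL_n(F)` -/
abbrev SUG (n : ℕ) (F : Type*) [Field F] (q : ℕ) : Subgroup (GL (Fin n) F) :=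
  Cfsg.GU n F q ⊓ specialLinear (Fin n) F

omit [Fintype F] in
theorem mem_SL_iff (g : GL (Fin n) F) :
    g ∈ specialLinear (Fin n) F ↔ (g : Matrix (Fin n) (Fin n) F).det = 1 := by
  unfold specialLinear
  rw [MonoidHom.mem_ker]
  constructor
  · intro h
    have := congrArg Units.val h
    simpa using this
  · intro h
    apply Units.ext
    simpa using h

omit [Fintype F] in
theorem conj_mem_SUG {g : GL (Fin n) F} (hg : g ∈ Cfsg.GU n F q) {x : GL (Fin n) F}
    (hx : x ∈ SUG n F q) : g * x * g⁻¹ ∈ SUG n F q := by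
  obtain ⟨h1, h2⟩ := Subgroup.mem_inf.mp hx
  refine Subgroup.mem_inf.mpr ⟨Subgroup.mul_mem _ (Subgroup.mul_mem _ hg h1) (Subgroup.inv_mem _ hg), ?_⟩
  rw [mem_SL_iff] at h2 ⊢
  rw [Units.val_mul, Units.val_mul, Matrix.det_mul, Matrix.det_mul, h2, mul_one, ← Matrix.det_mul,
    ← Units.val_mul, mul_inv_cancel, Units.val_one, Matrix.det_one]

/-- the Frobenius data -/
theorem exists_frob (hF : Fintype.card F = q ^ 2) :
    ∃ σ : F ≃+* F, (∀ a, σ a = a ^ q) ∧ ∀ a, σ (σ a) = a := by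
  obtain ⟨σ, hσ⟩ := Cfsg.Agent.Lib.Helper15.AschU.exists_isFrob hF
  exact ⟨σ, hσ.pow, hσ.invol⟩

omit [Fintype F] in
theorem mem_GU_iff (σ : F ≃+* F) (hσ : ∀ a, σ a = a ^ q) (g : GL (Fin n) F) :
    g ∈ Cfsg.GU n F q ↔
      (g : Matrix (Fin n) (Fin n) F)ᵀ * (g : Matrix (Fin n) (Fin n) F).map σ = 1 :=
  Cfsg.Agent.Lib.Helper18.PSLnFld.mem_GU_iff_gram σ q hσ g

end Unitary

end Cfsg.Agent.Lib.Helper8.SU3
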