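import Mathlib

/-!
# Fast arithmetic in `F_p[w]`, `w² = 2` (`p = 3, 5`) on natural number codes, for kernel computations

A code `n` stands for `(n % p) + (n / p) w`.  The operations below only use `Nat.add, Nat.mul, Nat.div, Nat.mod, Nat.sub,
Nat.beq` (accelerated in the kernel; written without notation to keep the kernel reductions short);
`toK p : ℕ → QuadraticAlgebra (ZMod p) 2 0` is a "ring homomorphism" for them.
-/

set_option autoImplicit false
set_option linter.unusedVariables false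

namespace Cfsg.Agent.Lib.Helper8.SU3.C

/-- the code of `a + b w` -/
def mk (p a b : ℕ) : ℕ := Nat.add (Nat.mod a p) (Nat.mul p (Nat.mod b p))

def add (p x y : ℕ) : ℕ := mk p (Nat.add (Nat.mod x p) (Nat.mod y p)) (Nat.add (Nat.div x p) (Nat.div y p))
def mul (p x y : ℕ) : ℕ :=
  mk p (Nat.add (Nat.mul (Nat.mod x p) (Nat.mod y p)) (Nat.mul 2 (Nat.mul (Nat.div x p) (Nat.div y p))))
    (Nat.add (Nat.mul (Nat.mod x p) (Nat.div y p)) (Nat.mul (Nat.div x p) (Nat.mod y p)))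
def neg (p x : ℕ) : ℕ := mk p (Nat.sub p (Nat.mod x p)) (Nat.sub p (Nat.mod (Nat.div x p) p))
def conj (p x : ℕ) : ℕ := mk p (Nat.mod x p) (Nat.sub p (Nat.mod (Nat.div x p) p))
def eqz (p x : ℕ) : Bool := Nat.beq (Nat.mod x p) 0 && Nat.beq (Nat.mod (Nat.div x p) p) 0
def eqc (p x y : ℕ) : Bool :=
  Nat.beq (Nat.mod x p) (Nat.mod y p) && Nat.beq (Nat.mod (Nat.div x p) p) (Nat.mod (Nat.div y p) p)

variable {p : ℕ}

theorem mk_eq (p a b : ℕ) : mk p a b = a % p + p * (b % p) := rfl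

theorem mk_mod (hp : 0 < p) (a b : ℕ) : mk p a b % p = a % p := by
  rw [mk_eq, Nat.add_mul_mod_self_left, Nat.mod_mod]

theorem mk_div (hp : 0 < p) (a b : ℕ) : mk p a b / p = b % p := by
  rw [mk_eq, Nat.add_mul_div_left _ _ hp, Nat.div_eq_of_lt (Nat.mod_lt _ hp), zero_add]

/-- the model field -/
abbrev Kp (p : ℕ) : Type := QuadraticAlgebra (ZMod p) 2 0

/-- decoding -/
def toK (p n : ℕ) : Kp p := ⟨((n % p : ℕ) : ZMod p), ((n / p : ℕ) : ZMod p)⟩

theorem toK_re (p n : ℕ) : (toK p n).re = (n : ZMod p) := by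
  show ((n % p : ℕ) : ZMod p) = _
  rw [ZMod.natCast_mod]

theorem toK_im (p n : ℕ) : (toK p n).im = ((n / p : ℕ) : ZMod p) := rfl

theorem toK_mk (hp : 0 < p) (a b : ℕ) : toK p (mk p a b) = ⟨(a : ZMod p), (b : ZMod p)⟩ := by
  unfold toK
  rw [mk_mod hp, mk_div hp, ZMod.natCast_mod, ZMod.natCast_mod]

theorem toK_add (hp : 0 < p) (x y : ℕ) : toK p (add p x y) = toK p x + toK p y := by
  have e : add p x y = mk p (x % p + y % p) (x / p + y / p) := rfl
  rw [e, toK_mk hp]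
  ext
  · simp [toK]
  · simp [toK]

theorem toK_mul (hp : 0 < p) (x y : ℕ) : toK p (mul p x y) = toK p x * toK p y := by
  have e : mul p x y = mk p (x % p * (y % p) + 2 * (x / p * (y / p))) (x % p * (y / p) + x / p * (y % p)) := rfl
  rw [e, toK_mk hp]
  ext
  · simp [toK]
    ring
  · simp [toK]

theorem cast_sub_mod (hp : 0 < p) (r : ℕ) : ((p - r % p : ℕ) : ZMod p) = -(r : ZMod p) := by
  rw [Nat.cast_sub (Nat.mod_lt _ hp).le, ZMod.natCast_self, zero_sub, ZMod.natCast_mod]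

theorem toK_neg (hp : 0 < p) (x : ℕ) : toK p (neg p x) = -toK p x := by
  have e : neg p x = mk p (p - x % p) (p - x / p % p) := rfl
  rw [e, toK_mk hp, cast_sub_mod hp, cast_sub_mod hp]
  ext
  · simp [toK]
  · simp [toK]

theorem toK_conj (hp : 0 < p) (x : ℕ) : toK p (conj p x) = ⟨(toK p x).re, -(toK p x).im⟩ := by
  have e : conj p x = mk p (x % p) (p - x / p % p) := rfl
  rw [e, toK_mk hp, cast_sub_mod hp]
  rfl

theorem natCast_eq_iff_mod (p : ℕ) (a b : ℕ) :
    ((a : ZMod p) = (b : ZMod p)) ↔ a % p = b % p :=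
  ZMod.natCast_eq_natCast_iff' a b p

theorem toK_eq_iff (hp : 0 < p) (x y : ℕ) : toK p x = toK p y ↔ eqc p x y = true := by
  have e : eqc p x y = (Nat.beq (x % p) (y % p) && Nat.beq (x / p % p) (y / p % p)) := rfl
  rw [e, Bool.and_eq_true, Nat.beq_eq, Nat.beq_eq, QuadraticAlgebra.ext_iff, toK_re, toK_re, toK_im,
    toK_im, natCast_eq_iff_mod, natCast_eq_iff_mod]

theorem toK_eq_zero_iff (hp : 0 < p) (x : ℕ) : toK p x = 0 ↔ eqz p x = true := by
  have e : eqz p x = (Nat.beq (x % p) 0 && Nat.beq (x / p % p) 0) := rfl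
  rw [e, Bool.and_eq_true, Nat.beq_eq, Nat.beq_eq, QuadraticAlgebra.ext_iff, toK_re, toK_im]
  simp only [QuadraticAlgebra.re_zero, QuadraticAlgebra.im_zero]
  have h0 : ((0 : ℕ) : ZMod p) = 0 := Nat.cast_zero
  rw [← h0, natCast_eq_iff_mod, natCast_eq_iff_mod, Nat.zero_mod]

theorem toK_surj (p : ℕ) [NeZero p] (k : Kp p) : ∃ n, n < p * p ∧ toK p n = k := by
  have hp : 0 < p := Nat.pos_of_ne_zero (NeZero.ne p)
  refine ⟨k.re.val + p * k.im.val, ?_, ?_⟩
  · have h1 := ZMod.val_lt k.re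
    have h2 := ZMod.val_lt k.im
    nlinarith
  · have h1 := ZMod.val_lt k.re
    have h2 := ZMod.val_lt k.im
    have e : k.re.val + p * k.im.val = mk p k.re.val k.im.val := by
      rw [mk_eq, Nat.mod_eq_of_lt h1, Nat.mod_eq_of_lt h2]
    rw [e, toK_mk hp, ZMod.natCast_zmod_val, ZMod.natCast_zmod_val]

theorem toK_natCast (hp : 1 < p) (a : ℕ) (ha : a < p) : toK p a = (a : Kp p) := by
  unfold toK
  rw [Nat.mod_eq_of_lt ha, Nat.div_eq_of_lt ha]
  ext
  · simp
  · simp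

end Cfsg.Agent.Lib.Helper8.SU3.C
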