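import Mathlib
import Cfsg.Prelude.Def_Classical
import Cfsg.Agent.Lib.Helper8.SU3.Comp

/-!
# Vectors and matrices over the codes of `F_p[w]`, and decoding into a field with `p²` elements
-/

set_option autoImplicit false
set_option linter.unusedVariables false
set_option linter.unusedSectionVars false

namespace Cfsg.Agent.Lib.Helper8.SU3.C

open Matrix

/-- a vector of three codes -/
structure V where
  x : ℕ
  y : ℕ
  z : ℕ

/-- a matrix of codes, by rows -/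
structure M where
  r0 : V
  r1 : V
  r2 : V

def herm (p : ℕ) (u v : V) : ℕ :=
  add p (add p (mul p u.x (conj p v.x)) (mul p u.y (conj p v.y))) (mul p u.z (conj p v.z))

def dot (p : ℕ) (u v : V) : ℕ :=
  add p (add p (mul p u.x v.x) (mul p u.y v.y)) (mul p u.z v.z)

def mv (p : ℕ) (A : M) (v : V) : V := ⟨dot p A.r0 v, dot p A.r1 v, dot p A.r2 v⟩

def col0 (A : M) : V := ⟨A.r0.x, A.r1.x, A.r2.x⟩
def col1 (A : M) : V := ⟨A.r0.y, A.r1.y, A.r2.y⟩
def col2 (A : M) : V := ⟨A.r0.z, A.r1.z, A.r2.z⟩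

/-- the matrix with given columns -/
def ofCols (c0 c1 c2 : V) : M := ⟨⟨c0.x, c1.x, c2.x⟩, ⟨c0.y, c1.y, c2.y⟩, ⟨c0.z, c1.z, c2.z⟩⟩

/-- the columns are orthonormal for the hermitian form -/
def chkU (p : ℕ) (A : M) : Bool :=
  eqc p (herm p (col0 A) (col0 A)) 1 && eqz p (herm p (col0 A) (col1 A)) && eqz p (herm p (col0 A) (col2 A)) &&
  eqz p (herm p (col1 A) (col0 A)) && eqc p (herm p (col1 A) (col1 A)) 1 && eqz p (herm p (col1 A) (col2 A)) &&
  eqz p (herm p (col2 A) (col0 A)) && eqz p (herm p (col2 A) (col1 A)) && eqc p (herm p (col2 A) (col2 A)) 1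

def det3 (p : ℕ) (A : M) : ℕ :=
  add p (add p
    (mul p A.r0.x (add p (mul p A.r1.y A.r2.z) (neg p (mul p A.r1.z A.r2.y))))
    (neg p (mul p A.r0.y (add p (mul p A.r1.x A.r2.z) (neg p (mul p A.r1.z A.r2.x))))))
    (mul p A.r0.z (add p (mul p A.r1.x A.r2.y) (neg p (mul p A.r1.y A.r2.x))))

def chkDet (p : ℕ) (A : M) : Bool := eqc p (det3 p A) 1

def codes (p : ℕ) : List ℕ := List.range (Nat.mul p p)

/-- all vectors whose first non-zero coordinate is `1` -/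
def allNrm (p : ℕ) (P : V → Bool) : Bool :=
  ((codes p).all fun y => (codes p).all fun z => P ⟨1, y, z⟩) &&
  ((codes p).all fun z => P ⟨0, 1, z⟩) && P ⟨0, 0, 1⟩

/-- all vectors -/
def allV (p : ℕ) (P : V → Bool) : Bool :=
  (codes p).all fun x => (codes p).all fun y => (codes p).all fun z => P ⟨x, y, z⟩

theorem mem_codes (p n : ℕ) : n ∈ codes p ↔ n < p * p := by
  unfold codes
  rw [List.mem_range]
  rfl

/-! ### decoding -/

/-- a decoding of the codes into a field with `p²` elements -/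
structure Dec (p : ℕ) (F : Type*) [Field F] where
  ψ : ℕ → F
  hadd : ∀ x y, ψ (C.add p x y) = ψ x + ψ y
  hmul : ∀ x y, ψ (C.mul p x y) = ψ x * ψ y
  hneg : ∀ x, ψ (C.neg p x) = -ψ x
  hconj : ∀ x, ψ (C.conj p x) = ψ x ^ p
  heqz : ∀ x, ψ x = 0 ↔ C.eqz p x = true
  heqc : ∀ x y, ψ x = ψ y ↔ C.eqc p x y = true
  hsurj : ∀ f : F, ∃ n, n < p * p ∧ ψ n = f
  hzero : ψ 0 = 0
  hone : ψ 1 = 1

variable {p : ℕ} {F : Type*} [Field F] (D : Dec p F)

/-- decoding of vectors -/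
def Dec.vF (c : V) : Fin 3 → F := ![D.ψ c.x, D.ψ c.y, D.ψ c.z]

/-- decoding of matrices -/
def Dec.mF (A : M) : Matrix (Fin 3) (Fin 3) F :=
  !![D.ψ A.r0.x, D.ψ A.r0.y, D.ψ A.r0.z; D.ψ A.r1.x, D.ψ A.r1.y, D.ψ A.r1.z; D.ψ A.r2.x, D.ψ A.r2.y, D.ψ A.r2.z]

theorem Dec.vF_surj (v : Fin 3 → F) : ∃ c : V, c.x < p * p ∧ c.y < p * p ∧ c.z < p * p ∧ D.vF c = v := by
  obtain ⟨a, ha, hav⟩ := D.hsurj (v 0)
  obtain ⟨b, hb, hbv⟩ := D.hsurj (v 1)
  obtain ⟨c, hc, hcv⟩ := D.hsurj (v 2)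
  refine ⟨⟨a, b, c⟩, ha, hb, hc, ?_⟩
  funext i
  fin_cases i
  · exact hav
  · exact hbv
  · exact hcv

theorem Dec.herm_eq (u v : V) : D.ψ (herm p u v) = Cfsg.hermForm 3 F p (D.vF u) (D.vF v) := by
  unfold herm Cfsg.hermForm Dec.vF
  rw [Fin.sum_univ_three, D.hadd, D.hadd, D.hmul, D.hmul, D.hmul, D.hconj, D.hconj, D.hconj]
  rfl

theorem Dec.dot_eq (u v : V) : D.ψ (dot p u v) = D.vF u ⬝ᵥ D.vF v := by
  unfold dot dotProduct Dec.vF
  rw [Fin.sum_univ_three, D.hadd, D.hadd, D.hmul, D.hmul, D.hmul]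
  rfl

theorem Dec.mv_eq (A : M) (v : V) : D.vF (mv p A v) = D.mF A *ᵥ D.vF v := by
  funext i
  fin_cases i
  · show D.ψ (dot p A.r0 v) = _
    rw [D.dot_eq]
    simp [Dec.mF, Dec.vF, Matrix.mulVec, dotProduct, Fin.sum_univ_three]
  · show D.ψ (dot p A.r1 v) = _
    rw [D.dot_eq]
    simp [Dec.mF, Dec.vF, Matrix.mulVec, dotProduct, Fin.sum_univ_three]
  · show D.ψ (dot p A.r2 v) = _
    rw [D.dot_eq]
    simp [Dec.mF, Dec.vF, Matrix.mulVec, dotProduct, Fin.sum_univ_three]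

theorem Dec.det_eq (A : M) : D.ψ (det3 p A) = (D.mF A).det := by
  unfold det3
  rw [Matrix.det_fin_three]
  simp only [D.hadd, D.hmul, D.hneg, Dec.mF, Matrix.of_apply, Matrix.cons_val', Matrix.cons_val_zero, Matrix.cons_val_one,
    Matrix.cons_val_two, Matrix.cons_val_fin_one, Matrix.empty_val', Matrix.head_cons, Matrix.tail_cons,
    Matrix.head_fin_const]
  ring

theorem Dec.det_of_chk (A : M) (h : chkDet p A = true) : (D.mF A).det = 1 := by
  rw [← D.det_eq, ← D.hone]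
  exact (D.heqc _ _).mpr h

theorem Dec.gram_of_chk (σ : F ≃+* F) (hσ : ∀ a, σ a = a ^ p) (A : M) (h : chkU p A = true) :
    (D.mF A)ᵀ * (D.mF A).map σ = 1 := by
  unfold chkU at h
  simp only [Bool.and_eq_true] at h
  obtain ⟨⟨⟨⟨⟨⟨⟨⟨h00, h01⟩, h02⟩, h10⟩, h11⟩, h12⟩, h20⟩, h21⟩, h22⟩ := h
  have e1 : ∀ u, D.ψ u = 1 ↔ eqc p u 1 = true := fun u => by rw [← D.hone]; exact D.heqc u 1
  rw [← e1, D.herm_eq] at h00 h11 h22
  rw [← D.heqz, D.herm_eq] at h01 h02 h10 h12 h20 h21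
  have hent : ∀ i j : Fin 3, ((D.mF A)ᵀ * (D.mF A).map σ) i j =
      Cfsg.hermForm 3 F p (fun k => D.mF A k i) (fun k => D.mF A k j) := by
    intro i j
    rw [Matrix.mul_apply]
    unfold Cfsg.hermForm
    refine Finset.sum_congr rfl fun k _ => ?_
    rw [Matrix.transpose_apply, Matrix.map_apply, hσ]
  have c0 : (fun k => D.mF A k 0) = D.vF (col0 A) := by
    funext k; fin_cases k <;> rfl
  have c1 : (fun k => D.mF A k 1) = D.vF (col1 A) := by
    funext k; fin_cases k <;> rfl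
  have c2 : (fun k => D.mF A k 2) = D.vF (col2 A) := by
    funext k; fin_cases k <;> rfl
  ext i j
  rw [hent]
  fin_cases i <;> fin_cases j
  · simpa [c0] using h00
  · simpa [c0, c1] using h01
  · simpa [c0, c2] using h02
  · simpa [c0, c1] using h10
  · simpa [c1] using h11
  · simpa [c1, c2] using h12
  · simpa [c0, c2] using h20
  · simpa [c1, c2] using h21
  · simpa [c2] using h22

end Cfsg.Agent.Lib.Helper8.SU3.C
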