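import Mathlib
import Cfsg.Agent.Lib.Helper8.SU3.CompV

/-!
# Decodings `ℕ → F` for fields with 9 and 25 elements
-/

set_option autoImplicit false
set_option linter.unusedVariables false
set_option linter.unusedSectionVars false

namespace Cfsg.Agent.Lib.Helper8.SU3.C

variable {F : Type*} [Field F]

/-- the decoding attached to a ring isomorphism from the model -/
noncomputable def mkDec (p : ℕ) (hp : 1 < p) (φ : Kp p ≃+* F)
    (hfrob : ∀ k : Kp p, (⟨k.re, -k.im⟩ : Kp p) = k ^ p) : Dec p F where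
  ψ := fun n => φ (toK p n)
  hadd := fun x y => by rw [toK_add (by omega), map_add]
  hmul := fun x y => by rw [toK_mul (by omega), map_mul]
  hneg := fun x => by rw [toK_neg (by omega), map_neg]
  hconj := fun x => by rw [toK_conj (by omega), hfrob, map_pow]
  heqz := fun x => by rw [← toK_eq_zero_iff (by omega), map_eq_zero_iff φ φ.injective]
  heqc := fun x y => by rw [← toK_eq_iff (by omega), φ.injective.eq_iff]
  hsurj := fun f => by
    haveI : NeZero p := ⟨by omega⟩
    obtain ⟨n, hn, hnk⟩ := toK_surj p (φ.symm f)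
    exact ⟨n, hn, by rw [hnk, RingEquiv.apply_symm_apply]⟩
  hzero := by
    rw [toK_natCast hp 0 (by omega), Nat.cast_zero, map_zero]
  hone := by
    rw [toK_natCast hp 1 hp, Nat.cast_one, map_one]

instance fact3 : Fact (∀ r : ZMod 3, r ^ 2 ≠ (2 : ZMod 3) + 0 * r) := ⟨by decide⟩
instance fact5 : Fact (∀ r : ZMod 5, r ^ 2 ≠ (2 : ZMod 5) + 0 * r) := ⟨by decide⟩
instance prime3 : Fact (Nat.Prime 3) := ⟨by norm_num⟩
instance prime5 : Fact (Nat.Prime 5) := ⟨by norm_num⟩

noncomputable instance fintypeK3 : Fintype (Kp 3) :=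
  Fintype.ofEquiv _ (QuadraticAlgebra.equivProd (2 : ZMod 3) 0).symm
noncomputable instance fintypeK5 : Fintype (Kp 5) :=
  Fintype.ofEquiv _ (QuadraticAlgebra.equivProd (2 : ZMod 5) 0).symm

theorem card_K3 : Fintype.card (Kp 3) = 9 := by
  rw [Fintype.card_congr (QuadraticAlgebra.equivProd (2 : ZMod 3) 0), Fintype.card_prod, ZMod.card]

theorem card_K5 : Fintype.card (Kp 5) = 25 := by
  rw [Fintype.card_congr (QuadraticAlgebra.equivProd (2 : ZMod 5) 0), Fintype.card_prod, ZMod.card]

theorem frob3 : ∀ a b : ZMod 3, (⟨a, -b⟩ : Kp 3) = (⟨a, b⟩ : Kp 3) ^ 3 := by decide +kernel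
theorem frob5 : ∀ a b : ZMod 5, (⟨a, -b⟩ : Kp 5) = (⟨a, b⟩ : Kp 5) ^ 5 := by decide +kernel

variable [Fintype F]

/-- decoding into a field with 9 elements -/
noncomputable def dec3 (hF : Fintype.card F = 3 ^ 2) : Dec 3 F :=
  mkDec 3 (by norm_num) (FiniteField.ringEquivOfCardEq (by rw [card_K3, hF]; norm_num))
    (fun k => frob3 k.re k.im)

/-- decoding into a field with 25 elements -/
noncomputable def dec5 (hF : Fintype.card F = 5 ^ 2) : Dec 5 F :=
  mkDec 5 (by norm_num) (FiniteField.ringEquivOfCardEq (by rw [card_K5, hF]; norm_num))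
    (fun k => frob5 k.re k.im)

end Cfsg.Agent.Lib.Helper8.SU3.C
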