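import Mathlib
import Cfsg.Agent.Lib.Helper8.SU3.Basic

/-!
# The patterns of the overgroups of `3 × SO_3(q)` in `SU_3(q)`, `q = 3, 5`, and their invariance under the unitary
scalar multiples of rational matrices
-/

set_option autoImplicit false
set_option linter.unusedSectionVars false
set_option linter.unusedVariables false

namespace Cfsg.Agent.Lib.Helper8.SU3

open Matrix Cfsg Cfsg.Geo
open scoped MatrixGroups

variable {F : Type*} [Field F]

/-- the hermitian norm -/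
def hq (q : ℕ) (v : Fin 3 → F) : F := Cfsg.hermForm 3 F q v v

/-- `v` is proportional to a vector fixed by the Frobenius map -/
def RatUp (q : ℕ) (v : Fin 3 → F) : Prop := ∀ j k, v j * v k ^ q = v k * v j ^ q

/-- the 21 points of `L_2(7) < SU_3(3)` -/
def Pat3 (i : F) (v : Fin 3 → F) : Prop :=
  hq 3 v ≠ 0 ∧ ((v ⬝ᵥ v) ^ 2 * hq 3 v = i ∨ RatUp 3 v)

/-- the 105 points of `3.A_7 < SU_3(5)` -/
def Pat5 (v : Fin 3 → F) : Prop :=
  hq 5 v ≠ 0 ∧ (v ⬝ᵥ v = 0 ∨ (v ⬝ᵥ v) ^ 3 * hq 5 v ^ 3 = 2 ∨ RatUp 5 v)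

variable [Fintype F] {q : ℕ}

/-- the data of a unitary scalar multiple of a rational matrix -/
theorem rat_unitary_data (hF : Fintype.card F = q ^ 2) (x : GL (Fin 3) F) (hx : x ∈ Cfsg.GU 3 F q)
    (A : Matrix (Fin 3) (Fin 3) F) (s : F) (hs : s ≠ 0) (hA : ∀ i j, A i j ^ q = A i j)
    (hxA : (x : Matrix (Fin 3) (Fin 3) F) = s • A) :
    ∃ c : F, c ≠ 0 ∧ c ^ q = c ∧ s ^ q * s * c = 1 ∧ A.det ^ 2 = c ^ 3 ∧ A.det ^ q = A.det ∧ A.det ≠ 0 ∧
      (∀ v : Fin 3 → F, ((x : Matrix (Fin 3) (Fin 3) F) *ᵥ v) ⬝ᵥ ((x : Matrix (Fin 3) (Fin 3) F) *ᵥ v) =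
        s ^ 2 * c * (v ⬝ᵥ v)) ∧
      (∀ v : Fin 3 → F, RatUp q v → RatUp q ((x : Matrix (Fin 3) (Fin 3) F) *ᵥ v)) := by
  classical
  obtain ⟨σ, hσ, hσσ⟩ := exists_frob hF
  have hAσ : A.map σ = A := by
    ext i j
    rw [Matrix.map_apply, hσ, hA]
  have hgram := (mem_GU_iff σ hσ x).mp hx
  have hN0 : s ^ q * s ≠ 0 := mul_ne_zero (pow_ne_zero _ hs) hs
  have hAA : Aᵀ * A = (s ^ q * s)⁻¹ • (1 : Matrix (Fin 3) (Fin 3) F) := by
    have e1 : ((x : Matrix (Fin 3) (Fin 3) F)).map σ = σ s • A := by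
      rw [hxA]
      ext i j
      rw [Matrix.map_apply, Matrix.smul_apply, Matrix.smul_apply, smul_eq_mul, smul_eq_mul, map_mul, hσ (A i j), hA]
    rw [e1, hxA, Matrix.transpose_smul, Matrix.smul_mul, Matrix.mul_smul, smul_smul, hσ] at hgram
    have : (s ^ q * s)⁻¹ • ((s * s ^ q) • (Aᵀ * A)) = (s ^ q * s)⁻¹ • (1 : Matrix (Fin 3) (Fin 3) F) := by rw [hgram]
    rw [smul_smul, mul_comm s (s ^ q), inv_mul_cancel₀ hN0, one_smul] at this
    exact this
  have hdetx : (x : Matrix (Fin 3) (Fin 3) F).det ≠ 0 := by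
    apply Matrix.det_ne_zero_of_right_inverse (B := ((x⁻¹ : GL (Fin 3) F) : Matrix (Fin 3) (Fin 3) F))
    rw [← Units.val_mul, mul_inv_cancel, Units.val_one]
  have hdetA : A.det ≠ 0 := by
    intro h0
    apply hdetx
    rw [hxA, Matrix.det_smul, h0, mul_zero]
  have hsq2 : (s ^ q) ^ q = s := by rw [← hσ, ← hσ, hσσ]
  refine ⟨(s ^ q * s)⁻¹, inv_ne_zero hN0, ?_, mul_inv_cancel₀ hN0, ?_, ?_, hdetA, ?_, ?_⟩
  · rw [inv_pow, mul_pow, hsq2, mul_comm]
  · have := congrArg Matrix.det hAA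
    rw [Matrix.det_mul, Matrix.det_transpose, Matrix.det_smul, Matrix.det_one, mul_one, Fintype.card_fin] at this
    rw [← this]
    ring
  · have h1 : σ A.det = (A.map σ).det := by
      have := (σ : F →+* F).map_det A
      rw [RingHom.mapMatrix_apply] at this
      exact this
    rw [← hσ, h1, hAσ]
  · intro v
    rw [hxA, Matrix.smul_mulVec, smul_dotProduct, dotProduct_smul, smul_eq_mul, smul_eq_mul,
      Matrix.dotProduct_mulVec, ← Matrix.mulVec_transpose, Matrix.mulVec_mulVec, hAA, Matrix.smul_mulVec,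
      Matrix.one_mulVec]
    simp only [smul_dotProduct, dotProduct_smul, smul_eq_mul]
    ring
  · intro v hv j k
    have hcoord : ∀ a, ((x : Matrix (Fin 3) (Fin 3) F) *ᵥ v) a = s * ∑ b, A a b * v b := by
      intro a
      rw [hxA, Matrix.smul_mulVec, Pi.smul_apply, smul_eq_mul]
      rfl
    have hpow : ∀ a, (((x : Matrix (Fin 3) (Fin 3) F) *ᵥ v) a) ^ q = s ^ q * ∑ b, A a b * v b ^ q := by
      intro a
      rw [hcoord, mul_pow, ← hσ (∑ b, A a b * v b), map_sum]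
      congr 1
      refine Finset.sum_congr rfl fun b _ => ?_
      rw [map_mul, hσ, hσ, hA]
    rw [hpow, hpow, hcoord, hcoord]
    have e : ∀ a a' : Fin 3, (∑ b, A a b * v b) * ∑ b', A a' b' * v b' ^ q =
        ∑ b, ∑ b', A a b * A a' b' * (v b * v b' ^ q) := by
      intro a a'
      rw [Finset.sum_mul_sum]
      refine Finset.sum_congr rfl fun b _ => Finset.sum_congr rfl fun b' _ => by ring
    have e2 : (∑ b, A j b * v b) * ∑ b', A k b' * v b' ^ q = (∑ b, A k b * v b) * ∑ b', A j b' * v b' ^ q := by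
      rw [e j k, e k j, Finset.sum_comm]
      refine Finset.sum_congr rfl fun b' _ => Finset.sum_congr rfl fun b _ => ?_
      rw [hv b b']
      ring
    calc s * (∑ b, A j b * v b) * (s ^ q * ∑ b, A k b * v b ^ q)
        = s * s ^ q * ((∑ b, A j b * v b) * ∑ b', A k b' * v b' ^ q) := by ring
      _ = s * s ^ q * ((∑ b, A k b * v b) * ∑ b', A j b' * v b' ^ q) := by rw [e2]
      _ = s * (∑ b, A k b * v b) * (s ^ q * ∑ b, A j b * v b ^ q) := by ring

omit [Fintype F] in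
theorem hq_unitary (x : GL (Fin 3) F) (hx : x ∈ Cfsg.GU 3 F q) (v : Fin 3 → F) :
    hq q ((x : Matrix (Fin 3) (Fin 3) F) *ᵥ v) = hq q v := hx v v

/-- invariance of the pattern for `q = 5` -/
theorem pat5_of_rat_unitary (hF : Fintype.card F = 5 ^ 2) (x : GL (Fin 3) F) (hx : x ∈ Cfsg.GU 3 F 5)
    (A : Matrix (Fin 3) (Fin 3) F) (s : F) (hs : s ≠ 0) (hA : ∀ i j, A i j ^ 5 = A i j)
    (hxA : (x : Matrix (Fin 3) (Fin 3) F) = s • A) (v : Fin 3 → F) (hv : Pat5 v) :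
    Pat5 ((x : Matrix (Fin 3) (Fin 3) F) *ᵥ v) := by
  obtain ⟨c, hc0, hcq, hsc, hdet, hdetq, hdet0, hd, hrat⟩ := rat_unitary_data hF x hx A s hs hA hxA
  have hc4 : c ^ 4 = 1 := by
    have : c * (c ^ 4 - 1) = 0 := by linear_combination hcq
    rcases mul_eq_zero.mp this with h | h
    · exact absurd h hc0
    · exact sub_eq_zero.mp h
  have hd4 : A.det ^ 4 = 1 := by
    have : A.det * (A.det ^ 4 - 1) = 0 := by linear_combination hdetq
    rcases mul_eq_zero.mp this with h | h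
    · exact absurd h hdet0
    · exact sub_eq_zero.mp h
  have hc2 : c ^ 2 = 1 := by
    have h6 : c ^ 6 = 1 := by
      calc c ^ 6 = (c ^ 3) ^ 2 := by ring
        _ = (A.det ^ 2) ^ 2 := by rw [hdet]
        _ = A.det ^ 4 := by ring
        _ = 1 := hd4
    calc c ^ 2 = c ^ 6 * (c ^ 4)⁻¹ := by
          rw [hc4, inv_one, mul_one]
          have : c ^ 6 = c ^ 2 * c ^ 4 := by ring
          rw [this, hc4, mul_one]
      _ = 1 := by rw [h6, hc4, inv_one, mul_one]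
  obtain ⟨h1, h2⟩ := hv
  refine ⟨by rw [hq_unitary x hx]; exact h1, ?_⟩
  rw [hd, hq_unitary x hx]
  have hs2c : s ^ 2 * c ≠ 0 := mul_ne_zero (pow_ne_zero _ hs) hc0
  rcases h2 with h | h | h
  · left
    rw [h, mul_zero]
  · right; left
    have : (s ^ 2 * c * (v ⬝ᵥ v)) ^ 3 * hq 5 v ^ 3 = (s ^ 5 * s * c) * c ^ 2 * ((v ⬝ᵥ v) ^ 3 * hq 5 v ^ 3) := by ring
    rw [this, hsc, hc2, h]
    ring
  · right; right
    exact hrat v h

/-- invariance of the pattern for `q = 3` -/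
theorem pat3_of_rat_unitary (hF : Fintype.card F = 3 ^ 2) (i : F) (x : GL (Fin 3) F) (hx : x ∈ Cfsg.GU 3 F 3)
    (A : Matrix (Fin 3) (Fin 3) F) (s : F) (hs : s ≠ 0) (hA : ∀ i j, A i j ^ 3 = A i j)
    (hxA : (x : Matrix (Fin 3) (Fin 3) F) = s • A) (v : Fin 3 → F) (hv : Pat3 i v) :
    Pat3 i ((x : Matrix (Fin 3) (Fin 3) F) *ᵥ v) := by
  obtain ⟨c, hc0, hcq, hsc, hdet, hdetq, hdet0, hd, hrat⟩ := rat_unitary_data hF x hx A s hs hA hxA
  have hc2 : c ^ 2 = 1 := by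
    have : c * (c ^ 2 - 1) = 0 := by linear_combination hcq
    rcases mul_eq_zero.mp this with h | h
    · exact absurd h hc0
    · exact sub_eq_zero.mp h
  have hd2 : A.det ^ 2 = 1 := by
    have : A.det * (A.det ^ 2 - 1) = 0 := by linear_combination hdetq
    rcases mul_eq_zero.mp this with h | h
    · exact absurd h hdet0
    · exact sub_eq_zero.mp h
  have hc1 : c = 1 := by
    have h3 : c ^ 3 = 1 := by rw [← hdet, hd2]
    calc c = c ^ 3 * (c ^ 2)⁻¹ := by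
          rw [hc2, inv_one, mul_one]
          have : c ^ 3 = c * c ^ 2 := by ring
          rw [this, hc2, mul_one]
      _ = 1 := by rw [h3, hc2, inv_one, mul_one]
  obtain ⟨h1, h2⟩ := hv
  refine ⟨by rw [hq_unitary x hx]; exact h1, ?_⟩
  rw [hd, hq_unitary x hx]
  rcases h2 with h | h
  · left
    have : (s ^ 2 * c * (v ⬝ᵥ v)) ^ 2 * hq 3 v = (s ^ 3 * s * c) * c * ((v ⬝ᵥ v) ^ 2 * hq 3 v) := by ring
    rw [this, hsc, hc1, h]
    ring
  · right
    exact hrat v h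

end Cfsg.Agent.Lib.Helper8.SU3
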