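import Mathlib
import Cfsg.Agent.Lib.Helper8.SU3.Dec
import Cfsg.Agent.Lib.Helper8.SU3.OrthPat

/-!
# The orthogonal patterns on codes, and the model facts for `L_2(7) < SU_3(3)` and `3.A_7 < SU_3(5)`
-/

set_option autoImplicit false
set_option linter.unusedSectionVars false
set_option linter.unusedVariables false

namespace Cfsg.Agent.Lib.Helper8.SU3.C

open Matrix Cfsg Cfsg.Agent.Lib.Helper8.SU3

def pow2 (p x : ℕ) : ℕ := mul p x x
def pow3 (p x : ℕ) : ℕ := mul p x (mul p x x)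

def ratUpC (p : ℕ) (v : V) : Bool :=
  eqc p (mul p v.x (conj p v.y)) (mul p v.y (conj p v.x)) &&
  eqc p (mul p v.x (conj p v.z)) (mul p v.z (conj p v.x)) &&
  eqc p (mul p v.y (conj p v.z)) (mul p v.z (conj p v.y))

def pat3C (i : ℕ) (v : V) : Bool :=
  !(eqz 3 (herm 3 v v)) && (eqc 3 (mul 3 (pow2 3 (dot 3 v v)) (herm 3 v v)) i || ratUpC 3 v)

def pat5C (v : V) : Bool :=
  !(eqz 5 (herm 5 v v)) &&
    (eqz 5 (dot 5 v v) || eqc 5 (mul 5 (pow3 5 (dot 5 v v)) (pow3 5 (herm 5 v v))) 2 || ratUpC 5 v)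

theorem allV_spec {p : ℕ} {P : V → Bool} (h : allV p P = true) (c : V) (hx : c.x < p * p) (hy : c.y < p * p)
    (hz : c.z < p * p) : P c = true := by
  unfold allV at h
  rw [List.all_eq_true] at h
  have h1 := h c.x ((mem_codes p _).mpr hx)
  rw [List.all_eq_true] at h1
  have h2 := h1 c.y ((mem_codes p _).mpr hy)
  rw [List.all_eq_true] at h2
  exact h2 c.z ((mem_codes p _).mpr hz)

variable {p : ℕ} {F : Type*} [Field F] (D : Dec p F)

theorem Dec.pow2_eq (x : ℕ) : D.ψ (pow2 p x) = D.ψ x ^ 2 := by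
  unfold pow2
  rw [D.hmul]
  ring

theorem Dec.pow3_eq (x : ℕ) : D.ψ (pow3 p x) = D.ψ x ^ 3 := by
  unfold pow3
  rw [D.hmul, D.hmul]
  ring

theorem Dec.ratUp_iff (v : V) : RatUp p (D.vF v) ↔ ratUpC p v = true := by
  unfold ratUpC
  rw [Bool.and_eq_true, Bool.and_eq_true, ← D.heqc, ← D.heqc, ← D.heqc, D.hmul, D.hmul, D.hmul, D.hmul, D.hmul, D.hmul,
    D.hconj, D.hconj, D.hconj]
  constructor
  · intro h
    exact ⟨⟨h 0 1, h 0 2⟩, h 1 2⟩
  · rintro ⟨⟨h01, h02⟩, h12⟩ j k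
    fin_cases j <;> fin_cases k
    · rfl
    · exact h01
    · exact h02
    · exact h01.symm
    · rfl
    · exact h12
    · exact h02.symm
    · exact h12.symm
    · rfl

theorem Dec.pat5_iff (D : Dec 5 F) (v : V) : Pat5 (D.vF v) ↔ pat5C v = true := by
  have h2 : D.ψ 2 = 2 := by
    have : (2 : ℕ) = add 5 1 1 := by decide
    rw [this, D.hadd, D.hone]
    norm_num
  unfold Pat5 pat5C hq
  rw [Bool.and_eq_true, Bool.or_eq_true, Bool.or_eq_true, Bool.not_eq_true', ← Bool.not_eq_true, ← D.heqz, ← D.heqz,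
    ← D.heqc, ← D.ratUp_iff, D.hmul, D.pow3_eq, D.pow3_eq, D.herm_eq, D.dot_eq, h2, or_assoc]

theorem Dec.pat3_iff (D : Dec 3 F) (i : ℕ) (v : V) : Pat3 (D.ψ i) (D.vF v) ↔ pat3C i v = true := by
  unfold Pat3 pat3C hq
  rw [Bool.and_eq_true, Bool.or_eq_true, Bool.not_eq_true', ← Bool.not_eq_true, ← D.heqz,
    ← D.heqc, ← D.ratUp_iff, D.hmul, D.pow2_eq, D.herm_eq, D.dot_eq]

/-! ### `q = 3` -/

/-- an element of `L_2(7)` outside `SO_3(3)` -/
def A3 : M := ⟨⟨0, 7, 7⟩, ⟨4, 1, 2⟩, ⟨4, 2, 1⟩⟩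
/-- `diag(i, -i, 1)` -/
def B3 : M := ⟨⟨3, 0, 0⟩, ⟨0, 6, 0⟩, ⟨0, 0, 1⟩⟩

theorem A3_U : chkU 3 A3 = true := by decide +kernel
theorem A3_det : chkDet 3 A3 = true := by decide +kernel
theorem B3_U : chkU 3 B3 = true := by decide +kernel
theorem B3_det : chkDet 3 B3 = true := by decide +kernel
theorem A3_stab : allV 3 (fun v => !(pat3C 3 v) || pat3C 3 (mv 3 A3 v)) = true := by decide +kernel
theorem B3_wit : pat3C 3 ⟨0, 1, 1⟩ = true ∧ pat3C 3 (mv 3 B3 ⟨0, 1, 1⟩) = false := by decide +kernel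
theorem A3_nonrat : eqc 3 (conj 3 4) 4 = false := by decide +kernel

/-! ### `q = 5` -/

/-- `diag(ω, ω², 1)` -/
def A5 : M := ⟨⟨17, 0, 0⟩, ⟨0, 12, 0⟩, ⟨0, 0, 1⟩⟩
/-- an element of `SU_3(5)` outside `3.A_7` -/
def B5 : M := ⟨⟨2, 0, 15⟩, ⟨0, 4, 0⟩, ⟨10, 0, 3⟩⟩

theorem A5_U : chkU 5 A5 = true := by decide +kernel
theorem A5_det : chkDet 5 A5 = true := by decide +kernel
theorem B5_U : chkU 5 B5 = true := by decide +kernel
theorem B5_det : chkDet 5 B5 = true := by decide +kernel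
set_option maxRecDepth 100000 in
theorem A5_stab : allV 5 (fun v => !(pat5C v) || pat5C (mv 5 A5 v)) = true := by decide +kernel
theorem B5_wit : pat5C ⟨0, 0, 1⟩ = true ∧ pat5C (mv 5 B5 ⟨0, 0, 1⟩) = false := by decide +kernel
theorem A5_nonrat : eqc 5 (conj 5 17) 17 = false := by decide +kernel

end Cfsg.Agent.Lib.Helper8.SU3.C
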