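import Mathlib
import Cfsg.Agent.Lib.Helper8.SU3.Basic
import Cfsg.Agent.Lib.Helper8.SU3.OrthModel

/-!
# From the checks on codes to elements of `SU_3(q)` and their action on patterns
-/

set_option autoImplicit false
set_option linter.unusedSectionVars false
set_option linter.unusedVariables false

namespace Cfsg.Agent.Lib.Helper8.SU3.C

open Matrix Cfsg Cfsg.Geo Cfsg.Agent.Lib.Helper8.SU3
open scoped MatrixGroups

variable {p : ℕ} {F : Type*} [Field F] (D : Dec p F)

/-- the element of `SU_3(p)` with a given matrix of codes -/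
theorem Dec.exists_gl (σ : F ≃+* F) (hσ : ∀ a, σ a = a ^ p) (A : M) (hU : chkU p A = true)
    (hd : chkDet p A = true) :
    ∃ a : GL (Fin 3) F, (a : Matrix (Fin 3) (Fin 3) F) = D.mF A ∧ a ∈ SUG 3 F p := by
  have hdet := D.det_of_chk A hd
  have hne : (D.mF A).det ≠ 0 := by rw [hdet]; exact one_ne_zero
  refine ⟨Matrix.GeneralLinearGroup.mkOfDetNeZero (D.mF A) hne, rfl, Subgroup.mem_inf.mpr ⟨?_, ?_⟩⟩
  · rw [mem_GU_iff σ hσ]
    exact D.gram_of_chk σ hσ A hU
  · rw [mem_SL_iff]
    exact hdet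

/-- a matrix of codes preserving a pattern on all codes preserves it on all vectors -/
theorem Dec.mapsTo_of_allV (Pat : (Fin 3 → F) → Prop) (patC : V → Bool)
    (hiff : ∀ c, Pat (D.vF c) ↔ patC c = true) (A : M)
    (h : allV p (fun v => !(patC v) || patC (mv p A v)) = true) (w : Fin 3 → F) (hw : Pat w) :
    Pat (D.mF A *ᵥ w) := by
  obtain ⟨c, hx, hy, hz, rfl⟩ := D.vF_surj w
  have h1 := allV_spec h c hx hy hz
  rw [← D.mv_eq, hiff]
  rw [hiff] at hw
  simp only [Bool.or_eq_true, Bool.not_eq_true'] at h1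
  rcases h1 with h1 | h1
  · rw [hw] at h1
    exact absurd h1 (by decide)
  · exact h1

end Cfsg.Agent.Lib.Helper8.SU3.C
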