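import Mathlib
import Cfsg.Agent.Lib.Helper8.SU3.Basic
import Cfsg.Agent.Lib.Helper22.UnitRA
import Cfsg.Agent.Lib.Helper22.SubfRA
import Cfsg.Agent.Lib.Helper25.GraphInv3
import Cfsg.Agent.Lib.Helper9.SubfieldA

/-!
# Form-rational structures of orthogonal type in dimension 3: unitary normalisation

If `f = hermForm 3 F q` is `F₀`-valued on the `F₀`-span of the columns of `P` (`|F| = |F₀|²`, odd characteristic), then there is a
unitary `g` such that `g⁻¹ m g` is a scalar multiple of an `F₀`-rational matrix for every `m` in `subfieldSubgroup F₀ P`.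
-/

set_option autoImplicit false
set_option linter.unusedSectionVars false
set_option linter.unusedVariables false

namespace Cfsg.Agent.Lib.Helper8.SU3

open Matrix Cfsg Cfsg.Geo
open scoped MatrixGroups

variable {F : Type*} [Field F] [Fintype F] {q : ℕ}

theorem card_sub_eq (hF : Fintype.card F = q ^ 2) (F₀ : Subfield F)
    (hcard : Fintype.card F = Nat.card F₀ ^ 2) : Nat.card F₀ = q := by
  have h : Nat.card F₀ ^ 2 = q ^ 2 := by rw [← hcard, hF]
  exact Nat.pow_left_injective (by norm_num : (2 : ℕ) ≠ 0) h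

theorem mem_sub_iff (hF : Fintype.card F = q ^ 2) (F₀ : Subfield F)
    (hcard : Fintype.card F = Nat.card F₀ ^ 2) (a : F) : a ∈ F₀ ↔ a ^ q = a :=
  Cfsg.Agent.Lib.Helper22.SubfR.mem_subfield_iff_pow F₀ q (card_sub_eq hF F₀ hcard) a

/-- N2: unitary normalisation of a form-rational structure of orthogonal type -/
theorem exists_rationaliser (hF : Fintype.card F = q ^ 2) (h2 : (2 : F) ≠ 0) (F₀ : Subfield F) (P : GL (Fin 3) F)
    (hcard : Fintype.card F = Nat.card F₀ ^ 2)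
    (hP : IsFormRationalStructure (Cfsg.hermForm 3 F q) F₀ 1 P) :
    ∃ g : GL (Fin 3) F, g ∈ Cfsg.GU 3 F q ∧ ∀ m ∈ subfieldSubgroup F₀ P,
      ∃ (A : Matrix (Fin 3) (Fin 3) F) (s : F), s ≠ 0 ∧ (∀ i j, A i j ∈ F₀) ∧
        ((g⁻¹ * m * g : GL (Fin 3) F) : Matrix (Fin 3) (Fin 3) F) = s • A := by
  classical
  obtain ⟨σ, hσ, hσσ⟩ := exists_frob hF
  have hmem : ∀ a : F, a ∈ F₀ ↔ σ a = a := fun a => by rw [hσ]; exact mem_sub_iff hF F₀ hcard a
  obtain ⟨Pm, hPm⟩ : ∃ Pm : Matrix (Fin 3) (Fin 3) F, Pm = (P : Matrix (Fin 3) (Fin 3) F) := ⟨_, rfl⟩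
  obtain ⟨Γ, hΓ⟩ : ∃ Γ : Matrix (Fin 3) (Fin 3) F, Γ = Pmᵀ * Pm.map σ := ⟨_, rfl⟩
  have hΓent : ∀ i j, Γ i j = Cfsg.hermForm 3 F q (Pm *ᵥ Pi.single i 1) (Pm *ᵥ Pi.single j 1) := by
    intro i j
    rw [hΓ, Matrix.mul_apply]
    unfold Cfsg.hermForm
    refine Finset.sum_congr rfl fun k _ => ?_
    rw [Matrix.transpose_apply, Matrix.map_apply, hσ, Matrix.mulVec_single_one, Matrix.mulVec_single_one]
    rfl
  have hsingle : ∀ i : Fin 3, ∀ k, (Pi.single i (1 : F) : Fin 3 → F) k ∈ F₀ := by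
    intro i k
    by_cases h : k = i
    · subst h; rw [Pi.single_eq_same]; exact F₀.one_mem
    · rw [Pi.single_eq_of_ne h]; exact F₀.zero_mem
  have hΓmem : ∀ i j, Γ i j ∈ F₀ := by
    intro i j
    rw [hΓent, hPm]
    have := hP (Pi.single i 1) (Pi.single j 1) (hsingle i) (hsingle j)
    rwa [one_mul] at this
  have hΓsymm : Γᵀ = Γ := by
    ext i j
    rw [Matrix.transpose_apply]
    have h1 : σ (Γ i j) = Γ j i := by
      rw [hΓ, Matrix.mul_apply, Matrix.mul_apply, map_sum]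
      refine Finset.sum_congr rfl fun k _ => ?_
      rw [map_mul, Matrix.transpose_apply, Matrix.transpose_apply, Matrix.map_apply, Matrix.map_apply, hσσ, mul_comm]
    rw [← h1, (hmem _).mp (hΓmem i j)]
  have hdetP : Pm.det ≠ 0 := by
    rw [hPm]
    apply Matrix.det_ne_zero_of_right_inverse (B := ((P⁻¹ : GL (Fin 3) F) : Matrix (Fin 3) (Fin 3) F))
    rw [← Units.val_mul, mul_inv_cancel, Units.val_one]
  have hdetσ : (Pm.map σ).det = σ Pm.det := by
    have := (σ : F →+* F).map_det Pm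
    rw [RingHom.mapMatrix_apply] at this
    exact this.symm
  have hdetΓ : Γ.det ≠ 0 := by
    rw [hΓ, Matrix.det_mul, Matrix.det_transpose, hdetσ]
    exact mul_ne_zero hdetP ((map_ne_zero σ).mpr hdetP)
  -- descend to `F₀`
  obtain ⟨Γ₀, hΓ₀⟩ : ∃ Γ₀ : Matrix (Fin 3) (Fin 3) F₀, Γ₀ = fun i j => ⟨Γ i j, hΓmem i j⟩ := ⟨_, rfl⟩
  have hΓ₀map : Γ₀.map (F₀.subtype : F₀ →+* F) = Γ := by
    ext i j
    rw [Matrix.map_apply, hΓ₀]
    rfl
  have hΓ₀symm : Γ₀ᵀ = Γ₀ := by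
    ext i j
    rw [Matrix.transpose_apply, hΓ₀]
    have := congrFun (congrFun hΓsymm i) j
    rw [Matrix.transpose_apply] at this
    exact this
  have hdetΓ₀ : ((Γ₀.det : F₀) : F) = Γ.det := by
    have := (F₀.subtype : F₀ →+* F).map_det Γ₀
    rw [RingHom.mapMatrix_apply, hΓ₀map] at this
    exact this
  have hdetΓ₀ne : Γ₀.det ≠ 0 := by
    intro h0
    apply hdetΓ
    rw [← hdetΓ₀, h0]
    rfl
  have h2₀ : (2 : F₀) ≠ 0 := by
    intro h
    apply h2
    have e : (2 : F₀) = 1 + 1 := by norm_num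
    rw [e] at h
    have h' := congrArg (fun x : F₀ => (x : F)) h
    simp only [Subfield.coe_add, Subfield.coe_one, ZeroMemClass.coe_zero] at h'
    rw [← h']
    norm_num
  obtain ⟨c, hc⟩ : ∃ c : F₀, c = Γ₀.det := ⟨_, rfl⟩
  have hc0 : c ≠ 0 := by rw [hc]; exact hdetΓ₀ne
  have hdetc : (c • (1 : Matrix (Fin 3) (Fin 3) F₀)).det = c ^ 3 := by
    rw [Matrix.det_smul, Matrix.det_one, mul_one, Fintype.card_fin]
  obtain ⟨k, hk⟩ := Cfsg.Agent.Lib.Helper25.GraphInv.exists_congr_of_disc h2₀ (c • (1 : Matrix (Fin 3) (Fin 3) F₀)) Γ₀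
    (by rw [Matrix.transpose_smul, Matrix.transpose_one]) hΓ₀symm (by rw [hdetc]; exact pow_ne_zero _ hc0) hdetΓ₀ne
    ⟨c * c, by rw [hdetc, ← hc]; ring⟩
  -- back to `F`
  obtain ⟨Km, hKm⟩ : ∃ Km : Matrix (Fin 3) (Fin 3) F, Km = (k : Matrix (Fin 3) (Fin 3) F₀).map (F₀.subtype : F₀ →+* F) :=
    ⟨_, rfl⟩
  obtain ⟨Ki, hKi⟩ : ∃ Ki : Matrix (Fin 3) (Fin 3) F,
      Ki = ((k⁻¹ : GL (Fin 3) F₀) : Matrix (Fin 3) (Fin 3) F₀).map (F₀.subtype : F₀ →+* F) := ⟨_, rfl⟩
  have hKK : Km * Ki = 1 := by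
    rw [hKm, hKi, ← Matrix.map_mul, ← Units.val_mul, mul_inv_cancel, Units.val_one]
    exact Matrix.map_one _ (map_zero _) (map_one _)
  have hKK' : Ki * Km = 1 := by
    rw [hKm, hKi, ← Matrix.map_mul, ← Units.val_mul, inv_mul_cancel, Units.val_one]
    exact Matrix.map_one _ (map_zero _) (map_one _)
  have hKσ : Km.map σ = Km := by
    ext i j
    rw [Matrix.map_apply]
    apply (hmem _).mp
    rw [hKm, Matrix.map_apply]
    exact (k.1 i j).2
  have hKΓ : Kmᵀ * Γ * Km = (c : F) • (1 : Matrix (Fin 3) (Fin 3) F) := by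
    have := congrArg (fun M : Matrix (Fin 3) (Fin 3) F₀ => M.map (F₀.subtype : F₀ →+* F)) hk
    simp only [Matrix.map_mul, Matrix.transpose_map] at this
    rw [hΓ₀map] at this
    rw [hKm, this]
    ext i j
    rw [Matrix.map_apply, Matrix.smul_apply, Matrix.smul_apply, Matrix.one_apply, Matrix.one_apply]
    by_cases hij : i = j
    · rw [if_pos hij, if_pos hij]; simp
    · rw [if_neg hij, if_neg hij]; simp
  have hcF0 : (c : F) ≠ 0 := fun h => hc0 (Subtype.ext h)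
  have hcfix : ((c : F)⁻¹) ^ q = (c : F)⁻¹ := by
    rw [← mem_sub_iff hF F₀ hcard]
    exact F₀.inv_mem c.2
  obtain ⟨u, hu0, hu⟩ := Cfsg.Agent.Lib.Helper22.UnitR.exists_norm_eq hF ((c : F)⁻¹) (inv_ne_zero hcF0) hcfix
  -- the unitary matrix
  obtain ⟨G, hG⟩ : ∃ G : Matrix (Fin 3) (Fin 3) F, G = u • (Pm * Km) := ⟨_, rfl⟩
  have hGgram : Gᵀ * G.map σ = 1 := by
    have e0 : (Pm * Km).map σ = Pm.map σ * Km := by
      have := Matrix.map_mul (L := Pm) (M := Km) (f := (σ : F →+* F))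
      rw [show Km.map ((σ : F →+* F) : F → F) = Km from hKσ] at this
      exact this
    have e1 : G.map σ = σ u • (Pm.map σ * Km) := by
      rw [hG, ← e0]
      ext i j
      rw [Matrix.map_apply, Matrix.smul_apply, Matrix.smul_apply, smul_eq_mul, smul_eq_mul, map_mul,
        Matrix.map_apply]
    rw [e1, hG, Matrix.transpose_smul, Matrix.transpose_mul, Matrix.smul_mul, Matrix.mul_smul, smul_smul]
    have e3 : Kmᵀ * Pmᵀ * (Pm.map σ * Km) = Kmᵀ * Γ * Km := by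
      rw [hΓ]
      simp only [Matrix.mul_assoc]
    rw [e3, hKΓ, smul_smul, hσ]
    have : u * u ^ q * (c : F) = 1 := by
      rw [mul_comm u, hu, inv_mul_cancel₀ hcF0]
    rw [this, one_smul]
  have hdetG : G.det ≠ 0 := by
    intro h0
    have := congrArg Matrix.det hGgram
    rw [Matrix.det_mul, Matrix.det_transpose, h0, zero_mul, Matrix.det_one] at this
    exact zero_ne_one this
  obtain ⟨g, hg⟩ : ∃ g : GL (Fin 3) F, (g : Matrix (Fin 3) (Fin 3) F) = G :=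
    ⟨Matrix.GeneralLinearGroup.mkOfDetNeZero G hdetG, rfl⟩
  refine ⟨g, ?_, ?_⟩
  · rw [mem_GU_iff σ hσ, hg]
    exact hGgram
  · intro m hm
    -- `P⁻¹ m P = c' • A₀`
    have hm' : P⁻¹ * m * P ∈ subfieldSubgroup F₀ (1 : GL (Fin 3) F) := by
      unfold subfieldSubgroup at hm ⊢
      have h1 : (MulAut.conj (1 : GL (Fin 3) F)).toMonoidHom = MonoidHom.id _ := by
        ext x
        simp
      rw [h1, Subgroup.map_id]
      obtain ⟨y, hy, rfl⟩ := Subgroup.mem_map.mp hm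
      have : P⁻¹ * ((MulAut.conj P).toMonoidHom y) * P = y := by
        show P⁻¹ * (P * y * P⁻¹) * P = y
        group
      rw [this]
      exact hy
    obtain ⟨A₀, c', hA₀⟩ := (Cfsg.Agent.Lib.Helper9.SubfieldA.mem_subfield_iff F₀ _).mp hm'
    obtain ⟨A₀m, hA₀m⟩ : ∃ A₀m : Matrix (Fin 3) (Fin 3) F,
        A₀m = (A₀ : Matrix (Fin 3) (Fin 3) F₀).map (F₀.subtype : F₀ →+* F) := ⟨_, rfl⟩
    rw [← hA₀m] at hA₀
    have hmP : (m : Matrix (Fin 3) (Fin 3) F) * Pm = Pm * ((c' : F) • A₀m) := by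
      rw [← hA₀, hPm, ← Units.val_mul, ← Units.val_mul]
      congr 1
      group
    refine ⟨Ki * A₀m * Km, (c' : F), c'.ne_zero, ?_, ?_⟩
    · intro i j
      have : Ki * A₀m * Km = (((k⁻¹ : GL (Fin 3) F₀) : Matrix (Fin 3) (Fin 3) F₀) * (A₀ : Matrix (Fin 3) (Fin 3) F₀) *
          (k : Matrix (Fin 3) (Fin 3) F₀)).map (F₀.subtype : F₀ →+* F) := by
        rw [Matrix.map_mul, Matrix.map_mul, hKi, hA₀m, hKm]
      rw [this, Matrix.map_apply]
      exact Subtype.prop _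
    · have hkey : Pm * A₀m * Km = Pm * Km * (Ki * A₀m * Km) := by
        calc Pm * A₀m * Km = Pm * (Km * Ki) * A₀m * Km := by rw [hKK, Matrix.mul_one]
          _ = Pm * Km * (Ki * A₀m * Km) := by simp only [Matrix.mul_assoc]
      have hmG : (m : Matrix (Fin 3) (Fin 3) F) * G = G * ((c' : F) • (Ki * A₀m * Km)) := by
        calc (m : Matrix (Fin 3) (Fin 3) F) * G = u • ((m : Matrix (Fin 3) (Fin 3) F) * Pm * Km) := by
              rw [hG, Matrix.mul_smul, Matrix.mul_assoc]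
          _ = u • ((c' : F) • (Pm * A₀m * Km)) := by
              rw [hmP, Matrix.mul_smul, Matrix.smul_mul]
          _ = u • ((c' : F) • (Pm * Km * (Ki * A₀m * Km))) := by rw [hkey]
          _ = G * ((c' : F) • (Ki * A₀m * Km)) := by
              rw [hG, Matrix.smul_mul, Matrix.mul_smul]
      rw [Units.val_mul, Units.val_mul, Matrix.mul_assoc, hg, hmG, ← Matrix.mul_assoc, ← hg, ← Units.val_mul,
        inv_mul_cancel, Units.val_one, Matrix.one_mul]

end Cfsg.Agent.Lib.Helper8.SU3
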