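import Mathlib
import Cfsg.Agent.Lib.Helper8.SU3.Bridge
import Cfsg.Agent.Lib.Helper8.SU3.Rational

/-!
# SUnMax stage 2, leaf E4b: `3 × SO_3(5) = 3 × S_5 < 3.A_7 < SU_3(5)` (helper8)
-/

set_option autoImplicit false
set_option linter.unusedSectionVars false
set_option linter.unusedVariables false

namespace Cfsg.Agent.Lib.Helper8.SUMLeaf

open Matrix Cfsg Cfsg.Geo Cfsg.Agent.Lib.Helper8.SU3 Cfsg.Agent.Lib.Helper8.SU3.C
open scoped MatrixGroups

variable {F : Type*} [Field F] [Fintype F]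

/-- E4b (NM).  `3 × SO_3(5) = 3 × S_5 < 3.A_7 < SU_3(5)`. -/
theorem su3_five_orth_not_max (hF : Fintype.card F = 5 ^ 2) (F₀ : Subfield F) (P : GL (Fin 3) F)
    (hcard : Fintype.card F = Nat.card F₀ ^ 2) (hP : IsFormRationalStructure (Cfsg.hermForm 3 F 5) F₀ 1 P) :
    ¬ IsMaximalIn (Cfsg.GU 3 F 5 ⊓ specialLinear (Fin 3) F)
      (subfieldSubgroup F₀ P ⊓ (Cfsg.GU 3 F 5 ⊓ specialLinear (Fin 3) F)) := by
  classical
  obtain ⟨D, hD⟩ : ∃ D : Dec 5 F, D = dec5 hF := ⟨_, rfl⟩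
  obtain ⟨σ, hσ, hσσ⟩ := exists_frob hF
  have hψ2 : D.ψ 2 = 2 := by
    have : (2 : ℕ) = add 5 1 1 := by decide
    rw [this, D.hadd, D.hone]
    norm_num
  have h2 : (2 : F) ≠ 0 := by
    rw [← hψ2]
    intro h
    have := (D.heqz 2).mp h
    exact absurd this (by decide)
  obtain ⟨g, hgU, hg⟩ := exists_rationaliser hF h2 F₀ P hcard hP
  obtain ⟨a, haM, haG⟩ := D.exists_gl σ hσ A5 A5_U A5_det
  obtain ⟨b, hbM, hbG⟩ := D.exists_gl σ hσ B5 B5_U B5_det
  have hmemF₀ : ∀ x : F, x ∈ F₀ ↔ x ^ 5 = x := mem_sub_iff hF F₀ hcard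
  refine not_max_of_stab (SUG 3 F 5) _ {v | Pat5 v} g a b inf_le_right
    (fun x hx => conj_mem_SUG hgU hx) ?_ haG ?_ ?_ hbG ?_
  · -- the subfield group stabilises the pattern
    rintro m ⟨hm1, hm2⟩
    apply mem_stabS_of_mapsTo
    intro w hw
    obtain ⟨A, s, hs, hA, hxA⟩ := hg m hm1
    have hxU : g⁻¹ * m * g ∈ Cfsg.GU 3 F 5 :=
      Subgroup.mul_mem _ (Subgroup.mul_mem _ (Subgroup.inv_mem _ hgU) hm2.1) hgU
    exact pat5_of_rat_unitary hF _ hxU A s hs (fun i j => (hmemF₀ _).mp (hA i j)) hxA w hw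
  · -- `a` stabilises the pattern
    apply mem_stabS_of_mapsTo
    intro w hw
    rw [haM]
    exact D.mapsTo_of_allV Pat5 pat5C (fun c => D.pat5_iff c) A5 A5_stab w hw
  · -- `a` is not a scalar multiple of a rational matrix
    intro hmem
    obtain ⟨A, s, hs, hA, hxA⟩ := hg _ hmem.1
    have e : g⁻¹ * (g * a * g⁻¹) * g = a := by group
    rw [e, haM] at hxA
    have h10 : D.ψ 17 = s * A 0 0 := by
      have := congrFun (congrFun hxA 0) 0
      simpa [Dec.mF, A5] using this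
    have h11 : D.ψ 1 = s * A 2 2 := by
      have := congrFun (congrFun hxA 2) 2
      simpa [Dec.mF, A5] using this
    rw [D.hone] at h11
    have hs' : s = (A 2 2)⁻¹ := eq_inv_of_mul_eq_one_left h11.symm
    have hmem4 : D.ψ 17 ∈ F₀ := by
      rw [h10, hs']
      exact F₀.mul_mem (F₀.inv_mem (hA 2 2)) (hA 0 0)
    have h4 := (hmemF₀ _).mp hmem4
    rw [← D.hconj, D.heqc, A5_nonrat] at h4
    exact absurd h4 (by decide)
  · -- `b` does not stabilise the pattern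
    intro hb
    have hw := (mem_stabS_iff _ b).mp hb (D.vF ⟨0, 0, 1⟩)
    have h1 : D.vF ⟨0, 0, 1⟩ ∈ {v | Pat5 v} := (D.pat5_iff _).mpr B5_wit.1
    have h2 := hw.mp h1
    rw [hbM, ← D.mv_eq] at h2
    have h3 := (D.pat5_iff _).mp h2
    rw [B5_wit.2] at h3
    exact absurd h3 (by decide)

end Cfsg.Agent.Lib.Helper8.SUMLeaf
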